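import Cfsg.Agent.BZ.Cov
import Cfsg.Agent.BH.PB
import Cfsg.Agent.KM.Tr
import Cfsg.Agent.SignalizersComponents.ComponentImage
import Cfsg.Agent.S0000

/-!
# BZ: the reduction of S4893 to the rows (helper20)

* `Red.ind` : induction on the order of the quasisimple group;
* `qsP` : all heights zero implies abelian, for quasisimple groups in `Type`; `s4893_of`.
-/

set_option autoImplicit false
set_option linter.unusedSectionVars false
set_option linter.style.haveILetI false

namespace Cfsg.Agent.BZ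

open Cfsg Cfsg.Agent.KM Cfsg.Agent.KM.BK Cfsg.Agent.Blocks Subgroup
open Cfsg.Agent.H644.CentralQuot (defl infl)
open scoped ComplexConjugate

universe u

namespace Red

variable {p : ℕ} [hp : Fact p.Prime] {M : Ideal AlgInt}

theorem quasi_quot {K : Type u} [Group K] (hK : IsQuasisimple K) (U : Subgroup K) [U.Normal] (hU : U ≤ center K) :
    IsQuasisimple (K ⧸ U) := by
  refine SignalizersComponents.ComponentImage.isQuasisimple_of_surjective hK (QuotientGroup.mk' U)
    (QuotientGroup.mk'_surjective U) ?_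
  have := hK.2
  obtain ⟨x, y, hxy⟩ := exists_pair_ne (K ⧸ center K)
  obtain ⟨a, rfl⟩ := QuotientGroup.mk_surjective x
  obtain ⟨b, rfl⟩ := QuotientGroup.mk_surjective y
  exact ⟨a, b, fun h => hxy (QuotientGroup.eq.2 (hU (QuotientGroup.eq.1 h)))⟩

theorem card_lt {K : Type u} [Group K] [Finite K] (U : Subgroup K) [U.Normal] (hU : U ≠ ⊥) :
    Nat.card (K ⧸ U) < Nat.card K := by
  rw [card_eq_card_quotient_mul_card_subgroup U]
  exact lt_mul_of_one_lt_right Nat.card_pos ((one_lt_card_iff_ne_bot U).2 hU)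

theorem height_bij {K : Type u} [Group K] (U : Subgroup K) [U.Normal] {B : Set (IrrCharacter K)}
    (h : ∀ χ ∈ B, ∃ θ, infl U θ = χ) (θ : IrrCharacter (K ⧸ U)) :
    blockHeight p (defl U B) (θ : K ⧸ U → ℂ) = blockHeight p B (infl U θ : K → ℂ) := by
  have h1 : (fun ψ : IrrCharacter (K ⧸ U) => (charDegree (ψ : K ⧸ U → ℂ)).factorization p) '' defl U B =
      (fun ψ : IrrCharacter K => (charDegree (ψ : K → ℂ)).factorization p) '' B := by
    ext n
    constructor
    · rintro ⟨ψ, hψ, rfl⟩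
      exact ⟨_, hψ, rfl⟩
    · rintro ⟨χ, hχ, rfl⟩
      obtain ⟨ψ, rfl⟩ := h χ hχ
      exact ⟨ψ, hχ, rfl⟩
  unfold blockHeight
  rw [h1]
  rfl

/-- some member of a block is not trivial on a central element of order `p` -/
theorem exists_ne {K : Type u} [Group K] [Finite K] (hM : IsPModular p M) {B : Set (IrrCharacter K)}
    (hB : IsPBlock M B) {z : K} (hz : orderOf z = p) : ∃ χ ∈ B, (χ : K → ℂ) z ≠ (χ : K → ℂ) 1 := by
  classical
  by_contra h
  push Not at h
  have := Characters.Core.finite_irr (G := K)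
  have h1 := S0907.result p M hM B hB 1 z (by rw [orderOf_one, Nat.dvd_one]; exact hp.out.ne_one) (by rw [hz])
  rw [finsum_mem_congr rfl (g := fun χ : IrrCharacter K => ((charDegree (χ : K → ℂ) ^ 2 : ℕ) : ℂ)) fun χ hχ => by
    rw [h χ hχ, Basic.irr_one_eq_charDegree χ.2, map_natCast, Nat.cast_pow, sq],
    finsum_mem_eq_finite_toFinset_sum _ (Set.toFinite B), ← Nat.cast_sum, Nat.cast_eq_zero,
    Finset.sum_eq_zero_iff] at h1
  have := Local.isPrime_of_isPModular hM
  obtain ⟨χ, hχ⟩ := Basic.isPBlock_nonempty hB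
  exact (pow_pos (Basic.charDegree_pos χ.2) 2).ne' (h1 χ ((Set.Finite.mem_toFinset _).2 hχ))

/-- **the induction** -/
theorem ind (X : Bad) (hM : IsPModular p M) (hR : For (RowX X) fun _ S _ => IsKnownSimple' S)
    (hq : ∀ (K : Type) [Group K] (U : Subgroup K) [U.Normal] (B : Set (IrrCharacter K)),
      (∀ θ ∈ defl U B, blockHeight p (defl U B) (θ : K ⧸ U → ℂ) = blockHeight p B (infl U θ : K → ℂ)) →
        X p K B → X p (K ⧸ U) (defl U B))
    (hc : ∀ (K : Type) [Group K] [Finite K], IsQuasisimple K → ∀ (z : K) [(zpowers z).Normal], z ∈ center K →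
      orderOf z = p → ∀ (B : Set (IrrCharacter K)) (D : Subgroup K), IsPBlock M B → IsDefectGroup p M B D → X p K B →
        Ab (D.map (QuotientGroup.mk' (zpowers z))) → Ab D) (n : ℕ) :
    ∀ (K : Type) [Group K] [Finite K], Nat.card K = n → IsQuasisimple K →
      ∀ (B : Set (IrrCharacter K)) (D : Subgroup K), IsPBlock M B → IsDefectGroup p M B D → X p K B → Ab D := by
  induction n using Nat.strong_induction_on with
  | _ n ih =>
  intro K _ _ hn hK B D hB hD hX
  letI := Fintype.ofFinite K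
  by_cases hZ : p ∣ Nat.card (center K)
  · obtain ⟨z, hz⟩ := exists_prime_orderOf_dvd_card' p hZ
    have ho : orderOf (z : K) = p := by rw [orderOf_coe, hz]
    have := zpowers_normal z.2
    have hU : zpowers (z : K) ≤ center K := zpowers_le.2 z.2
    have hg : IsPGroup p (zpowers (z : K)) := IsPGroup.of_card (n := 1) (by rw [Nat.card_zpowers, ho, pow_one])
    refine hc K hK z z.2 ho B D hB hD hX (ih _ (hn ▸ card_lt _ fun h => ?_) _ rfl (quasi_quot hK _ hU) _ _
      (H644.CentralQuot.isPBlock_defl hM hU hg hB) (H658.isDefectGroup_defl hM hU hg hB hD).2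
      (hq K _ B (fun θ hθ => BH.PB.height_infl hM hB hU hg hθ) hX))
    rw [zpowers_eq_bot] at h
    rw [h, orderOf_one] at ho
    exact hp.out.ne_one ho.symm
  have := Local.isPrime_of_isPModular hM
  obtain ⟨χ, hχ⟩ := Basic.isPBlock_nonempty hB
  obtain ⟨U, hU⟩ := TO.exists_kerZ χ.2
  have hle : U ≤ center K := fun z hz => ((hU z).1 hz).1
  by_cases h0 : U = ⊥
  · have hf : ∀ ψ ∈ B, ∀ z ∈ center K, (ψ : K → ℂ) z = (ψ : K → ℂ) 1 → z = 1 := fun ψ hψ z hz h => by
      rw [← mem_bot, ← h0]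
      exact (hU z).2 ⟨hz, TO.ker_common hM hB hZ ⟨ψ, hψ, rfl⟩ ⟨χ, hχ, rfl⟩ hz h⟩
    by_contra hA
    have := hK.2
    exact hR p (K ⧸ center K) (TO.not_comm_quot hK) S0000.result K (QuotientGroup.mk' _) M B D
      ⟨hM, hB, hD, fun h => hA (ab_iff.2 h), hK, QuotientGroup.mk'_surjective _, QuotientGroup.ker_mk' _, hZ,
        cyclic_center χ (hf χ hχ), hf⟩ hX
  have := TO.normal_of_le_center hle
  have hUp : ¬ p ∣ Nat.card U := fun hd => hZ (hd.trans (card_dvd_of_le hle))
  obtain ⟨c, h1, h2, h3, h4⟩ := TO.exists_defl hM hB U hUp (f := (χ : K → ℂ)) ⟨χ, hχ, rfl⟩ fun z hz => ((hU z).1 hz).2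
  obtain rfl : c = defl U B := Set.ext fun ψ =>
    TO.rd_mem_Fn.symm.trans ((h2 ψ).trans (TO.rd_mem_Fn (χ := infl U ψ)))
  have h5 : ∀ ψ ∈ B, ∃ θ, infl U θ = ψ := fun ψ hψ => exists_infl U ψ fun z hz => by
    obtain ⟨f, hf⟩ := h3 ψ ⟨ψ, hψ, rfl⟩
    rw [hf, Function.comp_apply, Function.comp_apply, map_one, QuotientGroup.mk'_apply,
      (QuotientGroup.eq_one_iff z).2 hz]
  exact ab_of_map (H592.Defect.isPGroup_of_isDefectGroup hD) (by rwa [QuotientGroup.ker_mk'])
    (ih _ (hn ▸ card_lt U h0) _ rfl (quasi_quot hK U hle) _ _ h1 (h4 D hD)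
      (hq K U B (fun θ _ => height_bij U h5 θ) hX))

/-- the central step for heights -/
theorem cenP (hM : IsPModular p M) {K : Type u} [Group K] [Finite K] {z : K} [(zpowers z).Normal] (hz : z ∈ center K)
    (ho : orderOf z = p) {B : Set (IrrCharacter K)} {D : Subgroup K} (hB : IsPBlock M B) (hD : IsDefectGroup p M B D)
    (hX : HZ p B) (hA : Ab (D.map (QuotientGroup.mk' (zpowers z)))) : Ab D := by
  letI := Fintype.ofFinite K
  have hU : zpowers z ≤ center K := zpowers_le.2 hz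
  have hcard : Nat.card (zpowers z) = p := by rw [Nat.card_zpowers, ho]
  have hg : IsPGroup p (zpowers z) := IsPGroup.of_card (n := 1) (by rw [hcard, pow_one])
  have hUD := (H658.isDefectGroup_defl hM hU hg hB hD).1
  obtain ⟨χ, hχ, hne⟩ := exists_ne hM hB ho
  obtain ⟨c, hc, -⟩ := CharactersDeep.Extraspecial.exists_central_hom χ.2
  let lam : zpowers z →* ℂˣ := c.comp (inclusion hU)
  have hl : ∀ y : zpowers z, (χ : K → ℂ) y = (χ : K → ℂ) 1 * (lam y : ℂ) := fun y => by
    have := hc 1 (inclusion hU y)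
    rwa [one_mul] at this
  obtain ⟨μ, hμ⟩ := S5001.result p M hM B hB D hD _ hU hg hUD lam χ hχ hl (hX χ hχ)
  have hk : lam.ker = ⊥ := by
    have : Fact (Nat.card (zpowers z)).Prime := ⟨hcard.symm ▸ hp.out⟩
    refine lam.ker.eq_bot_or_eq_top_of_prime_card.resolve_right fun h => hne ?_
    have h1 := hl ⟨z, mem_zpowers z⟩
    rwa [show lam ⟨z, mem_zpowers z⟩ = 1 from (h ▸ mem_top _ : _ ∈ lam.ker), Units.val_one, mul_one] at h1
  intro x hx y hy
  have h2 : x * y * (y * x)⁻¹ ∈ zpowers z := by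
    rw [← QuotientGroup.eq_one_iff, ← QuotientGroup.mk'_apply, map_mul, map_inv, map_mul, map_mul,
      hA _ ⟨x, hx, rfl⟩ _ ⟨y, hy, rfl⟩, mul_inv_cancel]
  have h3 : (⟨_, h2⟩ : zpowers z) ∈ lam.ker := by
    rw [MonoidHom.mem_ker, ← hμ]
    change μ (⟨x, hx⟩ * ⟨y, hy⟩ * (⟨y, hy⟩ * ⟨x, hx⟩)⁻¹) = 1
    rw [map_mul, map_inv, map_mul, map_mul, mul_comm (μ ⟨x, hx⟩), mul_inv_cancel]
  rw [hk, mem_bot] at h3
  exact mul_inv_eq_one.1 (congrArg Subtype.val h3)

end Red

/-- **all heights zero implies abelian**, quasisimple groups in `Type` -/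
theorem qsP (h : All RowP) {p : ℕ} [Fact p.Prime] {M : Ideal AlgInt} (hM : IsPModular p M) (K : Type) [Group K]
    [Finite K] (hK : IsQuasisimple K) (B : Set (IrrCharacter K)) (D : Subgroup K) (hB : IsPBlock M B)
    (hD : IsDefectGroup p M B D) (h0 : HZ p B) : Ab D :=
  Red.ind XP hM h.known (fun _ _ _ _ _ h1 h2 θ hθ => (h1 θ hθ).trans (h2 _ hθ))
    (fun _ _ _ _ _ _ hz ho _ _ hB hD hX hA => Red.cenP hM hz ho hB hD hX hA) _ K rfl hK B D hB hD h0

open Cfsg.Agent.H649 in
/-- the same in every universe -/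
theorem qsP' (h : All RowP) {p : ℕ} [Fact p.Prime] {M : Ideal AlgInt} (hM : IsPModular p M) {G : Type u} [Group G]
    [Finite G] (hG : IsQuasisimple G) {B : Set (IrrCharacter G)} {D : Subgroup G} (hB : IsPBlock M B)
    (hD : IsDefectGroup p M B D) (h0 : HZ p B) : Ab D := by
  have : Small.{0} G := Countable.toSmall G
  have : Finite (Shrink.{0} G) := Finite.of_equiv G (equivShrink.{0} G)
  let e : G ≃* Shrink.{0} G := (Shrink.mulEquiv : Shrink.{0} G ≃* G).symm
  have := hG.2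
  have : Nontrivial G := (QuotientGroup.mk'_surjective (center G)).nontrivial
  have h1 := qsP h hM (Shrink.{0} G) (SignalizersComponents.ComponentImage.isQuasisimple_of_surjective hG
    e.toMonoidHom e.surjective e.injective.nontrivial) _ _ (isPBlock_blkMap (e := e) hB)
    (isDefectGroup_blkMap (e := e) hD) (eq_iff_hz.1 fun χ hχ ψ hψ => by
      obtain ⟨χ, rfl⟩ : ∃ a, irrMap e a = χ := ⟨irrMap e.symm χ, irrMap_irrMap_symm e χ⟩
      obtain ⟨ψ, rfl⟩ : ∃ a, irrMap e a = ψ := ⟨irrMap e.symm ψ, irrMap_irrMap_symm e ψ⟩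
      have h2 := eq_iff_hz.2 h0 _ (irrMap_mem_blkMap.1 hχ) _ (irrMap_mem_blkMap.1 hψ)
      unfold nu at h2 ⊢
      rwa [charDegree_irrMap, charDegree_irrMap])
  exact Ab.of_map e.injective h1

/-- **S4893 from the theorem of Kessar and Malle and the rows.** -/
theorem s4893_of (hK : KMAll.{u}) (h : All RowP) {G : Type u} [Group G] [Finite G] (hG : IsQuasisimple G) (p : ℕ)
    [Fact p.Prime] (M : Ideal AlgInt) (hM : IsPModular p M) (B : Set (IrrCharacter G)) (hB : IsPBlock M B)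
    (D : Subgroup G) (hD : IsDefectGroup p M B D) :
    IsMulCommutative D ↔ ∀ χ : IrrCharacter G, χ ∈ B → blockHeight p B (χ : G → ℂ) = 0 :=
  ⟨hK p M hM G B D hB hD, fun h0 => ab_iff.1 (qsP' h hM hG hB hD h0)⟩

end Cfsg.Agent.BZ
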