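import Cfsg.Agent.BZ.Defs
import Cfsg.Agent.BHZ.Spor.Asm

/-!
# BZ: rows by the order of the centre, the list of the sporadic rows (helper20)

* `XP`, `XT` : the two properties to be refuted; `RowX X` (`RowP = RowX XP`, `RowT = RowX XT` by `rfl`);
* `Cov X n p S` : the row for the covers with centre of order `n`; `row_of_cov`;
* `Sp X` : the list of the sporadic rows; `Sp.spor`, `Sp.tits`.
-/

set_option autoImplicit false
set_option linter.unusedSectionVars false

namespace Cfsg.Agent.BZ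

open Cfsg Cfsg.Agent.KM Subgroup

/-- properties of blocks -/
abbrev Bad : Type 1 := ℕ → ∀ (K : Type) [Group K], Set (IrrCharacter K) → Prop

/-- all heights are zero -/
def XP : Bad := fun p _ _ B => BK.HZ p B

/-- all members of height zero have the same degree -/
def XT : Bad := fun p _ _ B => EqD p B

/-- the row for the property `X` -/
def RowX (X : Bad) : Prd := fun p S _ =>
  ∀ (K : Type) [Group K] [Finite K] (σ : K →* S) (M : Ideal AlgInt) (B : Set (IrrCharacter K)) (D : Subgroup K),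
    Hyp p M B D σ → ¬ X p K B

theorem rowP_eq : RowP = RowX XP := rfl

theorem rowT_eq : RowT = RowX XT := rfl

/-- the row for the covers with centre of order `n` -/
def Cov (X : Bad) (n p : ℕ) (S : Type) [Group S] : Prop :=
  ∀ (K : Type) [Group K] [Finite K] (σ : K →* S) (M : Ideal AlgInt) (B : Set (IrrCharacter K)) (D : Subgroup K),
    Hyp p M B D σ → Nat.card (center K) = n → ¬ X p K B

variable {X : Bad} {p : ℕ}

theorem RowX.of_equiv {S T : Type} [Group S] [Group T] (e : S ≃* T) (h : RowX X p T) : RowX X p S :=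
  fun K _ _ _ M B D H => h K _ M B D (H.congr e)

theorem Cov.of_equiv {n : ℕ} {S T : Type} [Group S] [Group T] (e : S ≃* T) (h : Cov X n p T) : Cov X n p S :=
  fun K _ _ _ M B D H => h K _ M B D (H.congr e)

theorem RowX.cov {S : Type} [Group S] (h : RowX X p S) (n : ℕ) : Cov X n p S :=
  fun K _ _ σ M B D H _ => h K σ M B D H

section
variable {M : Ideal AlgInt} {K : Type} [Group K] [Finite K] {B : Set (IrrCharacter K)} {D : Subgroup K}
  {S : Type} [Group S] {σ : K →* S}

theorem Hyp.card_eq (H : Hyp p M B D σ) : Nat.card K = Nat.card S * Nat.card (center K) := by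
  rw [card_eq_card_quotient_mul_card_subgroup σ.ker,
    Nat.card_congr (QuotientGroup.quotientKerEquivOfSurjective σ H.surj).toEquiv, H.ker]

theorem Hyp.pg (H : Hyp p M B D σ) : IsPGroup p D := by
  obtain ⟨g, -, P, h⟩ := H.hD
  rw [h]
  exact P.2.map _

theorem Hyp.cube_dvd [hp : Fact p.Prime] (H : Hyp p M B D σ) : p ^ 3 ∣ Nat.card D := by
  by_contra h
  exact H.nab (BHZ.Spor.comm_of_not_cube_dvd H.pg h)

theorem Hyp.cube [hp : Fact p.Prime] (H : Hyp p M B D σ) : p ^ 3 ∣ Nat.card S := by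
  have h := H.cube_dvd.trans (card_subgroup_dvd_card D)
  rw [H.card_eq] at h
  exact (Nat.Coprime.pow_left 3 ((Nat.Prime.coprime_iff_not_dvd hp.out).2 H.zp)).dvd_of_dvd_mul_right h

end

theorem row_of_cov [Fact p.Prime] {S : Type} [Group S] {m : ℕ} (hm : HasCyclicSchurMultiplier S m)
    (h : ∀ n, n ∣ m → ¬ p ∣ n → p ^ 3 ∣ Nat.card S → Cov X n p S) : RowX X p S := fun K _ _ σ M B D H =>
  h _ (H.ker ▸ H95.StemCover.card_ker_dvd_cyclic hm H.qs.1.commutator_eq_top σ H.surj H.ker.le) H.zp H.cube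
    K σ M B D H rfl

theorem small_prime [hp : Fact p.Prime] {N : ℕ} (h : p ^ 3 ∣ N)
    (hN : N ∣ (2 * 3 * 5 * 7 * 11 * 13 * 17 * 19 * 23 * 29 * 31 * 47) ^ 41) :
    p = 2 ∨ p = 3 ∨ p = 5 ∨ p = 7 ∨ p = 11 ∨ p = 13 ∨ p = 17 ∨ p = 19 ∨ p = 23 ∨ p = 29 ∨ p = 31 ∨ p = 47 := by
  have h1 := hp.out.dvd_of_dvd_pow (((dvd_pow_self p (by norm_num)).trans h).trans hN)
  have h2 : ∀ q : ℕ, q.Prime → (p ∣ q ↔ p = q) := fun q hq => Nat.prime_dvd_prime_iff_eq hp.out hq
  simp only [hp.out.dvd_mul, h2 2 (by norm_num), h2 3 (by norm_num), h2 5 (by norm_num), h2 7 (by norm_num),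
    h2 11 (by norm_num), h2 13 (by norm_num), h2 17 (by norm_num), h2 19 (by norm_num), h2 23 (by norm_num),
    h2 29 (by norm_num), h2 31 (by norm_num), h2 47 (by norm_num), or_assoc] at h1
  exact h1

/-- the sporadic rows: the simple groups, and the faithful blocks of the covers (`xx_n_p` : centre of order `n`) -/
structure Sp (X : Bad) : Prop where
  one : ∀ (p : ℕ) [Fact p.Prime] (S : Type) [Group S] [Finite S], IsSporadicGroup S ∨ Lie.IsoTits S → Cov X 1 p S
  m12_2_3 : ∀ (S : Type) [Group S] [Finite S], Spor.IsoM12 S → Cov X 2 3 S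
  m22_3_2 : ∀ (S : Type) [Group S] [Finite S], Spor.IsoM22 S → Cov X 3 2 S
  j2_2_3 : ∀ (S : Type) [Group S] [Finite S], Spor.IsoJ2 S → Cov X 2 3 S
  j3_3_2 : ∀ (S : Type) [Group S] [Finite S], Spor.IsoJ3 S → Cov X 3 2 S
  co1_2_3 : ∀ (S : Type) [Group S] [Finite S], Spor.IsoCo1 S → Cov X 2 3 S
  co1_2_5 : ∀ (S : Type) [Group S] [Finite S], Spor.IsoCo1 S → Cov X 2 5 S
  mcl_3_2 : ∀ (S : Type) [Group S] [Finite S], Spor.IsoMcL S → Cov X 3 2 S
  mcl_3_5 : ∀ (S : Type) [Group S] [Finite S], Spor.IsoMcL S → Cov X 3 5 S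
  hs_2_5 : ∀ (S : Type) [Group S] [Finite S], Spor.IsoHS S → Cov X 2 5 S
  suz_2_3 : ∀ (S : Type) [Group S] [Finite S], Spor.IsoSuz S → Cov X 2 3 S
  suz_3_2 : ∀ (S : Type) [Group S] [Finite S], Spor.IsoSuz S → Cov X 3 2 S
  ru_2_3 : ∀ (S : Type) [Group S] [Finite S], Spor.IsoRu S → Cov X 2 3 S
  ru_2_5 : ∀ (S : Type) [Group S] [Finite S], Spor.IsoRu S → Cov X 2 5 S
  on_3_2 : ∀ (S : Type) [Group S] [Finite S], Spor.IsoON S → Cov X 3 2 S
  on_3_7 : ∀ (S : Type) [Group S] [Finite S], Spor.IsoON S → Cov X 3 7 S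
  fi22_2_3 : ∀ (S : Type) [Group S] [Finite S], Spor.IsoFi22 S → Cov X 2 3 S
  fi22_3_2 : ∀ (S : Type) [Group S] [Finite S], Spor.IsoFi22 S → Cov X 3 2 S
  fi24_3_2 : ∀ (S : Type) [Group S] [Finite S], Spor.IsoFi24' S → Cov X 3 2 S
  fi24_3_7 : ∀ (S : Type) [Group S] [Finite S], Spor.IsoFi24' S → Cov X 3 7 S
  b_2_3 : ∀ (S : Type) [Group S] [Finite S], Spor.IsoB S → Cov X 2 3 S
  b_2_5 : ∀ (S : Type) [Group S] [Finite S], Spor.IsoB S → Cov X 2 5 S

theorem row_one [Fact p.Prime] (R : Sp X) {S : Type} [Group S] [Finite S] (hm : HasCyclicSchurMultiplier S 1)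
    (h : IsSporadicGroup S ∨ Lie.IsoTits S) : RowX X p S :=
  row_of_cov hm fun n hn _ _ => by
    obtain rfl := Nat.dvd_one.1 hn
    exact R.one p S h

theorem Sp.rm11 [Fact p.Prime] (R : Sp X) {S : Type} [Group S] (h : Spor.IsoM11 S) : RowX X p S := by
  obtain ⟨e⟩ := h
  have hi : Spor.IsoM11 Spor.M11 := ⟨MulEquiv.refl _⟩
  have hc := NotCT.Orders.m11 hi
  have hf := BHZ.Spor.finite_of_card hc (by norm_num)
  refine RowX.of_equiv e ?_
  exact row_one R S2034.result (Or.inl (Or.inl hi))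

theorem Sp.rm12 [Fact p.Prime] (R : Sp X) {S : Type} [Group S] (h : Spor.IsoM12 S) : RowX X p S := by
  obtain ⟨e⟩ := h
  have hi : Spor.IsoM12 Spor.M12 := ⟨MulEquiv.refl _⟩
  have hc := NotCT.Orders.m12 hi
  have hf := BHZ.Spor.finite_of_card hc (by norm_num)
  refine RowX.of_equiv e ?_
  refine row_of_cov S2035.result fun n hn h1 h3 => ?_
  rw [hc] at h3
  have hn' := Nat.le_of_dvd (by norm_num) hn
  by_cases h0 : n = 1
  · subst h0
    exact R.one p _ (Or.inl (Or.inr (Or.inl hi)))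
  rcases small_prime h3 (by decide +kernel) with rfl | rfl | rfl | rfl | rfl | rfl | rfl | rfl | rfl | rfl | rfl | rfl
  all_goals first
    | exact absurd h3 (by decide +kernel)
    | (interval_cases n <;> first
        | exact absurd hn (by decide)
        | exact absurd rfl h0
        | exact absurd (by decide) h1
        | exact R.m12_2_3 _ hi)

theorem Sp.rm22 [Fact p.Prime] (R : Sp X) {S : Type} [Group S] (h : Spor.IsoM22 S) : RowX X p S := by
  obtain ⟨e⟩ := h
  have hi : Spor.IsoM22 Spor.M22 := ⟨MulEquiv.refl _⟩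
  have hc := NotCT.Orders.m22 hi
  have hf := BHZ.Spor.finite_of_card hc (by norm_num)
  refine RowX.of_equiv e ?_
  refine row_of_cov S2036.result fun n hn h1 h3 => ?_
  rw [hc] at h3
  have hn' := Nat.le_of_dvd (by norm_num) hn
  by_cases h0 : n = 1
  · subst h0
    exact R.one p _ (Or.inl (Or.inr (Or.inr (Or.inl hi))))
  rcases small_prime h3 (by decide +kernel) with rfl | rfl | rfl | rfl | rfl | rfl | rfl | rfl | rfl | rfl | rfl | rfl
  all_goals first
    | exact absurd h3 (by decide +kernel)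
    | (interval_cases n <;> first
        | exact absurd hn (by decide)
        | exact absurd rfl h0
        | exact absurd (by decide) h1
        | exact R.m22_3_2 _ hi)

theorem Sp.rm23 [Fact p.Prime] (R : Sp X) {S : Type} [Group S] (h : Spor.IsoM23 S) : RowX X p S := by
  obtain ⟨e⟩ := h
  have hi : Spor.IsoM23 Spor.M23 := ⟨MulEquiv.refl _⟩
  have hc := NotCT.Orders.m23 hi
  have hf := BHZ.Spor.finite_of_card hc (by norm_num)
  refine RowX.of_equiv e ?_
  exact row_one R S2037.result (Or.inl (Or.inr (Or.inr (Or.inr (Or.inl hi)))))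

theorem Sp.rm24 [Fact p.Prime] (R : Sp X) {S : Type} [Group S] (h : Spor.IsoM24 S) : RowX X p S := by
  obtain ⟨e⟩ := h
  have hi : Spor.IsoM24 M24 := ⟨MulEquiv.refl _⟩
  have hc := NotCT.Orders.m24 hi
  have hf := BHZ.Spor.finite_of_card hc (by norm_num)
  refine RowX.of_equiv e ?_
  exact row_one R S2038.result (Or.inl (Or.inr (Or.inr (Or.inr (Or.inr (Or.inl hi))))))

theorem Sp.rj1 [Fact p.Prime] (R : Sp X) {S : Type} [Group S] (h : Spor.IsoJ1 S) : RowX X p S := by
  obtain ⟨e⟩ := h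
  have hi : Spor.IsoJ1 Spor.J1 := ⟨MulEquiv.refl _⟩
  have hc := NotCT.Orders.j1 hi
  have hf := BHZ.Spor.finite_of_card hc (by norm_num)
  refine RowX.of_equiv e ?_
  exact row_one R S2039.result (Or.inl (Or.inr (Or.inr (Or.inr (Or.inr (Or.inr (Or.inl hi)))))))

theorem Sp.rj2 [Fact p.Prime] (R : Sp X) {S : Type} [Group S] (h : Spor.IsoJ2 S) : RowX X p S := by
  obtain ⟨e⟩ := h
  have hi : Spor.IsoJ2 Spor.J2 := ⟨MulEquiv.refl _⟩
  have hc := NotCT.Orders.j2 hi
  have hf := BHZ.Spor.finite_of_card hc (by norm_num)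
  refine RowX.of_equiv e ?_
  refine row_of_cov S2040.result fun n hn h1 h3 => ?_
  rw [hc] at h3
  have hn' := Nat.le_of_dvd (by norm_num) hn
  by_cases h0 : n = 1
  · subst h0
    exact R.one p _ (Or.inl (Or.inr (Or.inr (Or.inr (Or.inr (Or.inr (Or.inr (Or.inl hi))))))))
  rcases small_prime h3 (by decide +kernel) with rfl | rfl | rfl | rfl | rfl | rfl | rfl | rfl | rfl | rfl | rfl | rfl
  all_goals first
    | exact absurd h3 (by decide +kernel)
    | (interval_cases n <;> first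
        | exact absurd hn (by decide)
        | exact absurd rfl h0
        | exact absurd (by decide) h1
        | exact R.j2_2_3 _ hi)

theorem Sp.rj3 [Fact p.Prime] (R : Sp X) {S : Type} [Group S] (h : Spor.IsoJ3 S) : RowX X p S := by
  obtain ⟨F, iF, iN, ω, hF, hω, ⟨e⟩⟩ := h
  have hi : Spor.IsoJ3 (Spor.J3 F ω) := ⟨F, iF, iN, ω, hF, hω, ⟨MulEquiv.refl _⟩⟩
  have hc := NotCT.Orders.j3 hi
  have hf := BHZ.Spor.finite_of_card hc (by norm_num)
  refine RowX.of_equiv e ?_
  refine row_of_cov (S2041.result hF ω hω) fun n hn h1 h3 => ?_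
  rw [hc] at h3
  have hn' := Nat.le_of_dvd (by norm_num) hn
  by_cases h0 : n = 1
  · subst h0
    exact R.one p _ (Or.inl (Or.inr (Or.inr (Or.inr (Or.inr (Or.inr (Or.inr (Or.inr (Or.inl hi)))))))))
  rcases small_prime h3 (by decide +kernel) with rfl | rfl | rfl | rfl | rfl | rfl | rfl | rfl | rfl | rfl | rfl | rfl
  all_goals first
    | exact absurd h3 (by decide +kernel)
    | (interval_cases n <;> first
        | exact absurd hn (by decide)
        | exact absurd rfl h0
        | exact absurd (by decide) h1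
        | exact R.j3_3_2 _ hi)

theorem Sp.rj4 [Fact p.Prime] (R : Sp X) {S : Type} [Group S] (h : Spor.IsoJ4 S) : RowX X p S := by
  obtain ⟨e⟩ := h
  have hi : Spor.IsoJ4 Spor.J4 := ⟨MulEquiv.refl _⟩
  have hc := NotCT.Orders.j4 hi
  have hf := BHZ.Spor.finite_of_card hc (by norm_num)
  refine RowX.of_equiv e ?_
  exact row_one R S2042.result (Or.inl (Or.inr (Or.inr (Or.inr (Or.inr (Or.inr (Or.inr (Or.inr (Or.inr (Or.inl hi))))))))))

theorem Sp.rco1 [Fact p.Prime] (R : Sp X) {S : Type} [Group S] (h : Spor.IsoCo1 S) : RowX X p S := by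
  obtain ⟨e⟩ := h
  have hi : Spor.IsoCo1 Spor.Co1 := ⟨MulEquiv.refl _⟩
  have hc := NotCT.Orders.co1 hi
  have hf := BHZ.Spor.finite_of_card hc (by norm_num)
  refine RowX.of_equiv e ?_
  refine row_of_cov S2043.result fun n hn h1 h3 => ?_
  rw [hc] at h3
  have hn' := Nat.le_of_dvd (by norm_num) hn
  by_cases h0 : n = 1
  · subst h0
    exact R.one p _ (Or.inl (Or.inr (Or.inr (Or.inr (Or.inr (Or.inr (Or.inr (Or.inr (Or.inr (Or.inr (Or.inl hi)))))))))))
  rcases small_prime h3 (by decide +kernel) with rfl | rfl | rfl | rfl | rfl | rfl | rfl | rfl | rfl | rfl | rfl | rfl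
  all_goals first
    | exact absurd h3 (by decide +kernel)
    | (interval_cases n <;> first
        | exact absurd hn (by decide)
        | exact absurd rfl h0
        | exact absurd (by decide) h1
        | exact R.co1_2_3 _ hi
        | exact R.co1_2_5 _ hi)

theorem Sp.rco2 [Fact p.Prime] (R : Sp X) {S : Type} [Group S] (h : Spor.IsoCo2 S) : RowX X p S := by
  obtain ⟨e⟩ := h
  have hi : Spor.IsoCo2 Spor.Co2 := ⟨MulEquiv.refl _⟩
  have hc := NotCT.Orders.co2 hi
  have hf := BHZ.Spor.finite_of_card hc (by norm_num)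
  refine RowX.of_equiv e ?_
  exact row_one R S2044.result (Or.inl (Or.inr (Or.inr (Or.inr (Or.inr (Or.inr (Or.inr (Or.inr (Or.inr (Or.inr (Or.inr (Or.inl hi))))))))))))

theorem Sp.rco3 [Fact p.Prime] (R : Sp X) {S : Type} [Group S] (h : Spor.IsoCo3 S) : RowX X p S := by
  obtain ⟨e⟩ := h
  have hi : Spor.IsoCo3 Spor.Co3 := ⟨MulEquiv.refl _⟩
  have hc := NotCT.Orders.co3 hi
  have hf := BHZ.Spor.finite_of_card hc (by norm_num)
  refine RowX.of_equiv e ?_
  exact row_one R S2045.result (Or.inl (Or.inr (Or.inr (Or.inr (Or.inr (Or.inr (Or.inr (Or.inr (Or.inr (Or.inr (Or.inr (Or.inr (Or.inl hi)))))))))))))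

theorem Sp.rmcl [Fact p.Prime] (R : Sp X) {S : Type} [Group S] (h : Spor.IsoMcL S) : RowX X p S := by
  obtain ⟨e⟩ := h
  have hi : Spor.IsoMcL Spor.McL := ⟨MulEquiv.refl _⟩
  have hc := NotCT.Orders.mcl hi
  have hf := BHZ.Spor.finite_of_card hc (by norm_num)
  refine RowX.of_equiv e ?_
  refine row_of_cov S2047.result fun n hn h1 h3 => ?_
  rw [hc] at h3
  have hn' := Nat.le_of_dvd (by norm_num) hn
  by_cases h0 : n = 1
  · subst h0
    exact R.one p _ (Or.inl (Or.inr (Or.inr (Or.inr (Or.inr (Or.inr (Or.inr (Or.inr (Or.inr (Or.inr (Or.inr (Or.inr (Or.inr (Or.inl hi))))))))))))))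
  rcases small_prime h3 (by decide +kernel) with rfl | rfl | rfl | rfl | rfl | rfl | rfl | rfl | rfl | rfl | rfl | rfl
  all_goals first
    | exact absurd h3 (by decide +kernel)
    | (interval_cases n <;> first
        | exact absurd hn (by decide)
        | exact absurd rfl h0
        | exact absurd (by decide) h1
        | exact R.mcl_3_2 _ hi
        | exact R.mcl_3_5 _ hi)

theorem Sp.rhs [Fact p.Prime] (R : Sp X) {S : Type} [Group S] (h : Spor.IsoHS S) : RowX X p S := by
  obtain ⟨e⟩ := h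
  have hi : Spor.IsoHS Spor.HS := ⟨MulEquiv.refl _⟩
  have hc := NotCT.Orders.hs hi
  have hf := BHZ.Spor.finite_of_card hc (by norm_num)
  refine RowX.of_equiv e ?_
  refine row_of_cov S2046.result fun n hn h1 h3 => ?_
  rw [hc] at h3
  have hn' := Nat.le_of_dvd (by norm_num) hn
  by_cases h0 : n = 1
  · subst h0
    exact R.one p _ (Or.inl (Or.inr (Or.inr (Or.inr (Or.inr (Or.inr (Or.inr (Or.inr (Or.inr (Or.inr (Or.inr (Or.inr (Or.inr (Or.inr (Or.inl hi)))))))))))))))
  rcases small_prime h3 (by decide +kernel) with rfl | rfl | rfl | rfl | rfl | rfl | rfl | rfl | rfl | rfl | rfl | rfl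
  all_goals first
    | exact absurd h3 (by decide +kernel)
    | (interval_cases n <;> first
        | exact absurd hn (by decide)
        | exact absurd rfl h0
        | exact absurd (by decide) h1
        | exact R.hs_2_5 _ hi)

theorem Sp.rsuz [Fact p.Prime] (R : Sp X) {S : Type} [Group S] (h : Spor.IsoSuz S) : RowX X p S := by
  obtain ⟨e⟩ := h
  have hi : Spor.IsoSuz Spor.Suz := ⟨MulEquiv.refl _⟩
  have hc := NotCT.Orders.suz hi
  have hf := BHZ.Spor.finite_of_card hc (by norm_num)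
  refine RowX.of_equiv e ?_
  refine row_of_cov S2048.result fun n hn h1 h3 => ?_
  rw [hc] at h3
  have hn' := Nat.le_of_dvd (by norm_num) hn
  by_cases h0 : n = 1
  · subst h0
    exact R.one p _ (Or.inl (Or.inr (Or.inr (Or.inr (Or.inr (Or.inr (Or.inr (Or.inr (Or.inr (Or.inr (Or.inr (Or.inr (Or.inr (Or.inr (Or.inr (Or.inl hi))))))))))))))))
  rcases small_prime h3 (by decide +kernel) with rfl | rfl | rfl | rfl | rfl | rfl | rfl | rfl | rfl | rfl | rfl | rfl
  all_goals first
    | exact absurd h3 (by decide +kernel)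
    | (interval_cases n <;> first
        | exact absurd hn (by decide)
        | exact absurd rfl h0
        | exact absurd (by decide) h1
        | exact R.suz_2_3 _ hi
        | exact R.suz_3_2 _ hi)

theorem Sp.rhe [Fact p.Prime] (R : Sp X) {S : Type} [Group S] (h : Spor.IsoHe S) : RowX X p S := by
  obtain ⟨e⟩ := h
  have hi : Spor.IsoHe Spor.He := ⟨MulEquiv.refl _⟩
  have hc := NotCT.Orders.he hi
  have hf := BHZ.Spor.finite_of_card hc (by norm_num)
  refine RowX.of_equiv e ?_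
  exact row_one R S2049.result (Or.inl (Or.inr (Or.inr (Or.inr (Or.inr (Or.inr (Or.inr (Or.inr (Or.inr (Or.inr (Or.inr (Or.inr (Or.inr (Or.inr (Or.inr (Or.inr (Or.inl hi)))))))))))))))))

theorem Sp.rru [Fact p.Prime] (R : Sp X) {S : Type} [Group S] (h : Spor.IsoRu S) : RowX X p S := by
  obtain ⟨e⟩ := h
  have hi : Spor.IsoRu Spor.Ru := ⟨MulEquiv.refl _⟩
  have hc := NotCT.Orders.ru hi
  have hf := BHZ.Spor.finite_of_card hc (by norm_num)
  refine RowX.of_equiv e ?_
  refine row_of_cov S2051.result fun n hn h1 h3 => ?_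
  rw [hc] at h3
  have hn' := Nat.le_of_dvd (by norm_num) hn
  by_cases h0 : n = 1
  · subst h0
    exact R.one p _ (Or.inl (Or.inr (Or.inr (Or.inr (Or.inr (Or.inr (Or.inr (Or.inr (Or.inr (Or.inr (Or.inr (Or.inr (Or.inr (Or.inr (Or.inr (Or.inr (Or.inr (Or.inl hi))))))))))))))))))
  rcases small_prime h3 (by decide +kernel) with rfl | rfl | rfl | rfl | rfl | rfl | rfl | rfl | rfl | rfl | rfl | rfl
  all_goals first
    | exact absurd h3 (by decide +kernel)
    | (interval_cases n <;> first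
        | exact absurd hn (by decide)
        | exact absurd rfl h0
        | exact absurd (by decide) h1
        | exact R.ru_2_3 _ hi
        | exact R.ru_2_5 _ hi)

theorem Sp.ron [Fact p.Prime] (R : Sp X) {S : Type} [Group S] (h : Spor.IsoON S) : RowX X p S := by
  obtain ⟨e⟩ := h
  have hi : Spor.IsoON Spor.ON := ⟨MulEquiv.refl _⟩
  have hc := NotCT.Orders.on hi
  have hf := BHZ.Spor.finite_of_card hc (by norm_num)
  refine RowX.of_equiv e ?_
  refine row_of_cov S2052.result fun n hn h1 h3 => ?_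
  rw [hc] at h3
  have hn' := Nat.le_of_dvd (by norm_num) hn
  by_cases h0 : n = 1
  · subst h0
    exact R.one p _ (Or.inl (Or.inr (Or.inr (Or.inr (Or.inr (Or.inr (Or.inr (Or.inr (Or.inr (Or.inr (Or.inr (Or.inr (Or.inr (Or.inr (Or.inr (Or.inr (Or.inr (Or.inr (Or.inl hi)))))))))))))))))))
  rcases small_prime h3 (by decide +kernel) with rfl | rfl | rfl | rfl | rfl | rfl | rfl | rfl | rfl | rfl | rfl | rfl
  all_goals first
    | exact absurd h3 (by decide +kernel)
    | (interval_cases n <;> first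
        | exact absurd hn (by decide)
        | exact absurd rfl h0
        | exact absurd (by decide) h1
        | exact R.on_3_2 _ hi
        | exact R.on_3_7 _ hi)

theorem Sp.rly [Fact p.Prime] (R : Sp X) {S : Type} [Group S] (h : Spor.IsoLy S) : RowX X p S := by
  obtain ⟨e⟩ := h
  have hi : Spor.IsoLy Spor.Ly := ⟨MulEquiv.refl _⟩
  have hc := NotCT.Orders.ly hi
  have hf := BHZ.Spor.finite_of_card hc (by norm_num)
  refine RowX.of_equiv e ?_
  exact row_one R S2050.result (Or.inl (Or.inr (Or.inr (Or.inr (Or.inr (Or.inr (Or.inr (Or.inr (Or.inr (Or.inr (Or.inr (Or.inr (Or.inr (Or.inr (Or.inr (Or.inr (Or.inr (Or.inr (Or.inr (Or.inl hi))))))))))))))))))))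

theorem Sp.rfi22 [Fact p.Prime] (R : Sp X) {S : Type} [Group S] (h : Spor.IsoFi22 S) : RowX X p S := by
  obtain ⟨e⟩ := h
  have hi : Spor.IsoFi22 Spor.Fi22 := ⟨MulEquiv.refl _⟩
  have hc := NotCT.Orders.fi22 hi
  have hf := BHZ.Spor.finite_of_card hc (by norm_num)
  refine RowX.of_equiv e ?_
  refine row_of_cov S2053.result fun n hn h1 h3 => ?_
  rw [hc] at h3
  have hn' := Nat.le_of_dvd (by norm_num) hn
  by_cases h0 : n = 1
  · subst h0
    exact R.one p _ (Or.inl (Or.inr (Or.inr (Or.inr (Or.inr (Or.inr (Or.inr (Or.inr (Or.inr (Or.inr (Or.inr (Or.inr (Or.inr (Or.inr (Or.inr (Or.inr (Or.inr (Or.inr (Or.inr (Or.inr (Or.inl hi)))))))))))))))))))))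
  rcases small_prime h3 (by decide +kernel) with rfl | rfl | rfl | rfl | rfl | rfl | rfl | rfl | rfl | rfl | rfl | rfl
  all_goals first
    | exact absurd h3 (by decide +kernel)
    | (interval_cases n <;> first
        | exact absurd hn (by decide)
        | exact absurd rfl h0
        | exact absurd (by decide) h1
        | exact R.fi22_2_3 _ hi
        | exact R.fi22_3_2 _ hi)

theorem Sp.rfi23 [Fact p.Prime] (R : Sp X) {S : Type} [Group S] (h : Spor.IsoFi23 S) : RowX X p S := by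
  obtain ⟨e⟩ := h
  have hi : Spor.IsoFi23 Spor.Fi23 := ⟨MulEquiv.refl _⟩
  have hc := NotCT.Orders.fi23 hi
  have hf := BHZ.Spor.finite_of_card hc (by norm_num)
  refine RowX.of_equiv e ?_
  exact row_one R S2054.result (Or.inl (Or.inr (Or.inr (Or.inr (Or.inr (Or.inr (Or.inr (Or.inr (Or.inr (Or.inr (Or.inr (Or.inr (Or.inr (Or.inr (Or.inr (Or.inr (Or.inr (Or.inr (Or.inr (Or.inr (Or.inr (Or.inl hi))))))))))))))))))))))

theorem Sp.rfi24 [Fact p.Prime] (R : Sp X) {S : Type} [Group S] (h : Spor.IsoFi24' S) : RowX X p S := by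
  obtain ⟨e⟩ := h
  have hi : Spor.IsoFi24' Spor.Fi24' := ⟨MulEquiv.refl _⟩
  have hc := NotCT.Orders.fi24 hi
  have hf := BHZ.Spor.finite_of_card hc (by norm_num)
  refine RowX.of_equiv e ?_
  refine row_of_cov S2055.result fun n hn h1 h3 => ?_
  rw [hc] at h3
  have hn' := Nat.le_of_dvd (by norm_num) hn
  by_cases h0 : n = 1
  · subst h0
    exact R.one p _ (Or.inl (Or.inr (Or.inr (Or.inr (Or.inr (Or.inr (Or.inr (Or.inr (Or.inr (Or.inr (Or.inr (Or.inr (Or.inr (Or.inr (Or.inr (Or.inr (Or.inr (Or.inr (Or.inr (Or.inr (Or.inr (Or.inr (Or.inl hi)))))))))))))))))))))))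
  rcases small_prime h3 (by decide +kernel) with rfl | rfl | rfl | rfl | rfl | rfl | rfl | rfl | rfl | rfl | rfl | rfl
  all_goals first
    | exact absurd h3 (by decide +kernel)
    | (interval_cases n <;> first
        | exact absurd hn (by decide)
        | exact absurd rfl h0
        | exact absurd (by decide) h1
        | exact R.fi24_3_2 _ hi
        | exact R.fi24_3_7 _ hi)

theorem Sp.rhn [Fact p.Prime] (R : Sp X) {S : Type} [Group S] (h : Spor.IsoHN S) : RowX X p S := by
  obtain ⟨e⟩ := h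
  have hi : Spor.IsoHN Spor.HN := ⟨MulEquiv.refl _⟩
  have hc := NotCT.Orders.hn hi
  have hf := BHZ.Spor.finite_of_card hc (by norm_num)
  refine RowX.of_equiv e ?_
  exact row_one R S2056.result (Or.inl (Or.inr (Or.inr (Or.inr (Or.inr (Or.inr (Or.inr (Or.inr (Or.inr (Or.inr (Or.inr (Or.inr (Or.inr (Or.inr (Or.inr (Or.inr (Or.inr (Or.inr (Or.inr (Or.inr (Or.inr (Or.inr (Or.inr (Or.inl hi))))))))))))))))))))))))

theorem Sp.rth [Fact p.Prime] (R : Sp X) {S : Type} [Group S] (h : Spor.IsoTh S) : RowX X p S := by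
  obtain ⟨e⟩ := h
  have hi : Spor.IsoTh Spor.Th := ⟨MulEquiv.refl _⟩
  have hc := NotCT.Orders.th hi
  have hf := BHZ.Spor.finite_of_card hc (by norm_num)
  refine RowX.of_equiv e ?_
  exact row_one R S2057.result (Or.inl (Or.inr (Or.inr (Or.inr (Or.inr (Or.inr (Or.inr (Or.inr (Or.inr (Or.inr (Or.inr (Or.inr (Or.inr (Or.inr (Or.inr (Or.inr (Or.inr (Or.inr (Or.inr (Or.inr (Or.inr (Or.inr (Or.inr (Or.inr (Or.inl hi)))))))))))))))))))))))))

theorem Sp.rb [Fact p.Prime] (R : Sp X) {S : Type} [Group S] (h : Spor.IsoB S) : RowX X p S := by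
  obtain ⟨e⟩ := h
  have hi : Spor.IsoB Spor.BabyMonster := ⟨MulEquiv.refl _⟩
  have hc := NotCT.Orders.b hi
  have hf := BHZ.Spor.finite_of_card hc (by norm_num)
  refine RowX.of_equiv e ?_
  refine row_of_cov S2058.result fun n hn h1 h3 => ?_
  rw [hc] at h3
  have hn' := Nat.le_of_dvd (by norm_num) hn
  by_cases h0 : n = 1
  · subst h0
    exact R.one p _ (Or.inl (Or.inr (Or.inr (Or.inr (Or.inr (Or.inr (Or.inr (Or.inr (Or.inr (Or.inr (Or.inr (Or.inr (Or.inr (Or.inr (Or.inr (Or.inr (Or.inr (Or.inr (Or.inr (Or.inr (Or.inr (Or.inr (Or.inr (Or.inr (Or.inr (Or.inl hi))))))))))))))))))))))))))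
  rcases small_prime h3 (by decide +kernel) with rfl | rfl | rfl | rfl | rfl | rfl | rfl | rfl | rfl | rfl | rfl | rfl
  all_goals first
    | exact absurd h3 (by decide +kernel)
    | (interval_cases n <;> first
        | exact absurd hn (by decide)
        | exact absurd rfl h0
        | exact absurd (by decide) h1
        | exact R.b_2_3 _ hi
        | exact R.b_2_5 _ hi)

theorem Sp.rm [Fact p.Prime] (R : Sp X) {S : Type} [Group S] (h : Spor.IsoM S) : RowX X p S := by
  obtain ⟨e⟩ := h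
  have hi : Spor.IsoM Spor.Monster := ⟨MulEquiv.refl _⟩
  have hc := NotCT.Orders.m hi
  have hf := BHZ.Spor.finite_of_card hc (by norm_num)
  refine RowX.of_equiv e ?_
  exact row_one R S2059.result (Or.inl (Or.inr (Or.inr (Or.inr (Or.inr (Or.inr (Or.inr (Or.inr (Or.inr (Or.inr (Or.inr (Or.inr (Or.inr (Or.inr (Or.inr (Or.inr (Or.inr (Or.inr (Or.inr (Or.inr (Or.inr (Or.inr (Or.inr (Or.inr (Or.inr (Or.inr (hi)))))))))))))))))))))))))))

theorem Sp.spor (R : Sp X) : For (RowX X) CSpor := by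
  intro p _ S _ _ _ _ h
  rcases h with h | h | h | h | h | h | h | h | h | h | h | h | h | h | h | h | h | h | h | h | h | h | h | h | h | h
  · exact R.rm11 h
  · exact R.rm12 h
  · exact R.rm22 h
  · exact R.rm23 h
  · exact R.rm24 h
  · exact R.rj1 h
  · exact R.rj2 h
  · exact R.rj3 h
  · exact R.rj4 h
  · exact R.rco1 h
  · exact R.rco2 h
  · exact R.rco3 h
  · exact R.rmcl h
  · exact R.rhs h
  · exact R.rsuz h
  · exact R.rhe h
  · exact R.rru h
  · exact R.ron h
  · exact R.rly h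
  · exact R.rfi22 h
  · exact R.rfi23 h
  · exact R.rfi24 h
  · exact R.rhn h
  · exact R.rth h
  · exact R.rb h
  · exact R.rm h

theorem Sp.tits (R : Sp X) : For (RowX X) CTits := by
  intro p _ S _ _ _ _ h
  obtain ⟨e⟩ := h
  have hi : Lie.IsoTits Lie.TitsGroup := ⟨MulEquiv.refl _⟩
  have hf := BHZ.Spor.finite_of_card (NotCT.Orders.tits hi) (by norm_num)
  exact RowX.of_equiv (T := Lie.TitsGroup) (by exact e) (row_one R S2115.result (Or.inr hi))

end Cfsg.Agent.BZ
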