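import Cfsg.Agent.KM.Defs
import Cfsg.Prelude.Def_BrauerPairs

/-!
# BZ (S4893, S4853): the rows (helper20)

* `Hyp p M B D σ` : `B` is a faithful block of the cover `σ : K →* S` (cyclic centre of order prime to `p`) with a
  NON-abelian defect group `D`;
* `RowP p S` : such a block has a member of positive height (S4893);
  `RowT p S` : such a block has two members of height zero with different degrees (S4853);
* `For W C` : the row `W` for the family `C` (families of `KM/Defs`); `All W`; `All.known`;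
* `BoxN2` : nilpotent `2`-blocks, the central extension step.
-/

set_option autoImplicit false

namespace Cfsg.Agent.BZ

open Cfsg Cfsg.Agent.KM

universe u

/-- all members of height zero have the same degree -/
def EqD (p : ℕ) {G : Type u} [Group G] (B : Set (IrrCharacter G)) : Prop :=
  ∀ χ ∈ B, ∀ ψ ∈ B, blockHeight p B (χ : G → ℂ) = 0 → blockHeight p B (ψ : G → ℂ) = 0 →
    charDegree (χ : G → ℂ) = charDegree (ψ : G → ℂ)

/-- the hypothesis of the quasisimple case; `σ` is the quotient by the centre -/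
structure Hyp (p : ℕ) (M : Ideal AlgInt) {K : Type} [Group K] (B : Set (IrrCharacter K)) (D : Subgroup K) {S : Type}
    [Group S] (σ : K →* S) : Prop where
  hM : IsPModular p M
  hB : IsPBlock M B
  hD : IsDefectGroup p M B D
  nab : ¬ IsMulCommutative D
  qs : IsQuasisimple K
  surj : Function.Surjective σ
  ker : σ.ker = Subgroup.center K
  zp : ¬ p ∣ Nat.card (Subgroup.center K)
  cyc : IsCyclic (Subgroup.center K)
  faith : ∀ χ ∈ B, ∀ z ∈ Subgroup.center K, (χ : K → ℂ) z = (χ : K → ℂ) 1 → z = 1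

/-- properties of a prime and a group -/
abbrev Prd : Type 1 := ℕ → ∀ (S : Type) [Group S], Prop

/-- **S4893** for the covers of `S` : a member of positive height -/
def RowP : Prd := fun p S _ =>
  ∀ (K : Type) [Group K] [Finite K] (σ : K →* S) (M : Ideal AlgInt) (B : Set (IrrCharacter K)) (D : Subgroup K),
    Hyp p M B D σ → ¬ BK.HZ p B

/-- **S4853** for the covers of `S` : two degrees of height zero -/
def RowT : Prd := fun p S _ =>
  ∀ (K : Type) [Group K] [Finite K] (σ : K →* S) (M : Ideal AlgInt) (B : Set (IrrCharacter K)) (D : Subgroup K),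
    Hyp p M B D σ → ¬ EqD p B

theorem Hyp.congr {p : ℕ} {M : Ideal AlgInt} {K : Type} [Group K] {B : Set (IrrCharacter K)} {D : Subgroup K}
    {S T : Type} [Group S] [Group T] {σ : K →* S} (H : Hyp p M B D σ) (e : S ≃* T) :
    Hyp p M B D (e.toMonoidHom.comp σ) :=
  { H with
    surj := e.surjective.comp H.surj
    ker := by
      rw [← H.ker]
      ext x
      simp [MonoidHom.mem_ker] }

theorem RowP.of_equiv {p : ℕ} {S T : Type} [Group S] [Group T] (e : S ≃* T) (h : RowP p T) : RowP p S :=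
  fun K _ _ _ M B D H => h K _ M B D (H.congr e)

theorem RowT.of_equiv {p : ℕ} {S T : Type} [Group S] [Group T] (e : S ≃* T) (h : RowT p T) : RowT p S :=
  fun K _ _ _ M B D H => h K _ M B D (H.congr e)

/-- the row `W` for the nonabelian simple groups with the property `C p` -/
def For (W C : Prd) : Prop :=
  ∀ (p : ℕ) [Fact p.Prime] (S : Type) [Group S] [Finite S] [IsSimpleGroup S], ¬ IsMulCommutative S → C p S → W p S

theorem For.of_split {W C : Prd} (h1 : For W (Ev C)) (h2 : For W (Od C)) : For W C :=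
  fun p _ S _ _ _ hS h => (em (p = 2)).elim (fun e => h1 p S hS ⟨e, h⟩) fun e => h2 p S hS ⟨e, h⟩

/-- the rows; all the rows of Lie type except `lie` are in cross characteristic -/
structure All (W : Prd) : Prop where
  alt : For W CAlt
  lie : For W CLie
  psl : For W CPsl
  psp : For W CPsp
  psu : For W CPsu
  oodd : For W COdd
  oplus : For W CPlus
  ominus : For W CMinus
  g2 : For W CG2
  f4 : For W CF4
  e6 : For W CE6
  e7 : For W CE7
  e8 : For W CE8
  te6 : For W CTe6
  td4 : For W CTd4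
  sz : For W CSz
  ree : For W CRee
  tf4 : For W CTf4
  tits : For W CTits
  spor : For W CSpor

/-- the assembly over the known simple groups -/
theorem All.known {W : Prd} (R : All W) : For W (fun _ S _ => IsKnownSimple' S) := by
  intro p _ S _ _ _ hS hC
  have lie : IsLieTypeChar p S → W p S := fun h => R.lie p S hS h
  have exc : IsExceptionalChevChar p S → W p S := fun h =>
    lie (Or.inr (Or.inr (Or.inr (Or.inr (Or.inr (Or.inr (Or.inl h)))))))
  have tw : IsTwistedE6D4Char p S → W p S := fun h =>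
    lie (Or.inr (Or.inr (Or.inr (Or.inr (Or.inr (Or.inr (Or.inr (Or.inl h))))))))
  rcases hC with h | h | h | h | h | h | h | h | h | h
  · exfalso
    apply hS
    have : Fact (Nat.card S).Prime := ⟨h⟩
    have := isCyclic_of_prime_card (p := Nat.card S) (α := S) rfl
    exact ⟨⟨fun a b => (IsCyclic.commGroup (α := S)).mul_comm a b⟩⟩
  · exact R.alt p S hS h
  · obtain ⟨F, iF, iN, n, hn, hn2, he⟩ := h
    by_cases hF : (p : F) = 0
    · exact lie (Or.inl ⟨F, iF, iN, charP_of_cast hF, n, hn, hn2, he⟩)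
    · exact R.psl p S hS ⟨F, iF, iN, n, hF, hn, hn2, he⟩
  · obtain ⟨F, iF, iN, n, hn, hn2, he⟩ := h
    by_cases hF : (p : F) = 0
    · exact lie (Or.inr (Or.inl ⟨F, iF, iN, charP_of_cast hF, n, hn, hn2, he⟩))
    · exact R.psp p S hS ⟨F, iF, iN, n, hF, hn, hn2, he⟩
  · obtain ⟨F, iF, iN, n, q, hq, hn, hn2, he⟩ := h
    by_cases hF : (p : F) = 0
    · exact lie (Or.inr (Or.inr (Or.inl ⟨F, iF, iN, charP_of_cast hF, n, q, hq, hn, hn2, he⟩)))
    · exact R.psu p S hS ⟨F, iF, iN, n, q, hF, hq, hn, hn2, he⟩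
  · obtain ⟨F, iF, iN, m, hm, hodd, he⟩ := h
    by_cases hF : (p : F) = 0
    · exact lie (Or.inr (Or.inr (Or.inr (Or.inl ⟨F, iF, iN, charP_of_cast hF, m, hm, hodd, he⟩))))
    · exact R.oodd p S hS ⟨F, iF, iN, m, hF, hm, hodd, he⟩
  · obtain ⟨F, iF, iN, m, hm, he⟩ := h
    by_cases hF : (p : F) = 0
    · exact lie (Or.inr (Or.inr (Or.inr (Or.inr (Or.inl ⟨F, iF, iN, charP_of_cast hF, m, hm, he⟩)))))
    · exact R.oplus p S hS ⟨F, iF, iN, m, hF, hm, he⟩
  · obtain ⟨F, iF, iN, m, a, b, hm, hab, he⟩ := h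
    by_cases hF : (p : F) = 0
    · exact lie (Or.inr (Or.inr (Or.inr (Or.inr (Or.inr (Or.inl
        ⟨F, iF, iN, charP_of_cast hF, m, a, b, hm, hab, he⟩))))))
    · exact R.ominus p S hS ⟨F, iF, iN, m, a, b, hF, hm, hab, he⟩
  · rcases h with h | h | h | h | h | h | h | h | h | h | h
    · obtain ⟨F, iF, iN, h3, he⟩ := h
      by_cases hF : (p : F) = 0
      · exact exc ⟨F, iF, iN, charP_of_cast hF, Or.inl ⟨h3, he⟩⟩
      · exact R.g2 p S hS ⟨F, iF, iN, hF, h3, he⟩
    · obtain ⟨F, iF, iN, he⟩ := h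
      by_cases hF : (p : F) = 0
      · exact exc ⟨F, iF, iN, charP_of_cast hF, Or.inr (Or.inl he)⟩
      · exact R.f4 p S hS ⟨F, iF, iN, hF, he⟩
    · obtain ⟨F, iF, iN, he⟩ := h
      by_cases hF : (p : F) = 0
      · exact exc ⟨F, iF, iN, charP_of_cast hF, Or.inr (Or.inr (Or.inl he))⟩
      · exact R.e6 p S hS ⟨F, iF, iN, hF, he⟩
    · obtain ⟨F, iF, iN, he⟩ := h
      by_cases hF : (p : F) = 0
      · exact exc ⟨F, iF, iN, charP_of_cast hF, Or.inr (Or.inr (Or.inr (Or.inl he)))⟩
      · exact R.e7 p S hS ⟨F, iF, iN, hF, he⟩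
    · obtain ⟨F, iF, iN, he⟩ := h
      by_cases hF : (p : F) = 0
      · exact exc ⟨F, iF, iN, charP_of_cast hF, Or.inr (Or.inr (Or.inr (Or.inr he)))⟩
      · exact R.e8 p S hS ⟨F, iF, iN, hF, he⟩
    · obtain ⟨K, iF, iN, q, hq, hK, he⟩ := h
      by_cases hF : (p : K) = 0
      · exact tw ⟨K, iF, iN, charP_of_cast hF, q, hq, Or.inl ⟨hK, he⟩⟩
      · exact R.te6 p S hS ⟨K, iF, iN, q, hF, hq, hK, he⟩
    · obtain ⟨K, iF, iN, q, hq, hK, he⟩ := h
      by_cases hF : (p : K) = 0
      · exact tw ⟨K, iF, iN, charP_of_cast hF, q, hq, Or.inr ⟨hK, he⟩⟩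
      · exact R.td4 p S hS ⟨K, iF, iN, q, hF, hq, hK, he⟩
    · by_cases hp2 : p = 2
      · exact lie (Or.inr (Or.inr (Or.inr (Or.inr (Or.inr (Or.inr (Or.inr (Or.inr (Or.inl ⟨hp2, h⟩)))))))))
      · exact R.sz p S hS ⟨hp2, h⟩
    · by_cases hp3 : p = 3
      · exact lie (Or.inr (Or.inr (Or.inr (Or.inr (Or.inr (Or.inr (Or.inr (Or.inr (Or.inr (Or.inr
          ⟨hp3, h⟩))))))))))
      · exact R.ree p S hS ⟨hp3, h⟩
    · by_cases hp2 : p = 2
      · exact lie (Or.inr (Or.inr (Or.inr (Or.inr (Or.inr (Or.inr (Or.inr (Or.inr (Or.inr (Or.inl ⟨hp2, h⟩))))))))))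
      · exact R.tf4 p S hS ⟨hp2, h⟩
    · exact R.tits p S hS h
  · exact R.spor p S hS h

/-- nilpotent `2`-blocks of quasisimple groups: a defect group which is abelian modulo the centre is abelian -/
def BoxN2 : Prop :=
  ∀ (M : Ideal AlgInt), IsPModular 2 M → ∀ (K : Type) [Group K] [Finite K], IsQuasisimple K →
    ∀ (B : Set (IrrCharacter K)) (D : Subgroup K), IsPBlock M B → IsDefectGroup 2 M B D → IsNilpotentBlock 2 M B →
      ⁅D, D⁆ ≤ Subgroup.center K → IsMulCommutative D

end Cfsg.Agent.BZ
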