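import Cfsg.Agent.H644.CentralQuot
import Cfsg.Agent.H649.ConjPair
import Cfsg.Agent.H652.PairBasic
import Cfsg.Agent.Characters.Counting
import Cfsg.Agent.Blocks.InvSum

/-!
# BZ: nilpotent blocks and central `p`-subgroups (lead)

* `Up.nil_up` : if the block dominated by `B` modulo a central `p`-subgroup is nilpotent, then `B` is nilpotent.
-/

set_option autoImplicit false
set_option linter.unusedSectionVars false
set_option linter.style.haveILetI false

namespace Cfsg.Agent.BZ.Up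

open Cfsg Cfsg.Agent.Blocks Subgroup
open Cfsg.Agent.H644.CentralQuot (defl infl)

universe u v

section hom

variable {C : Type u} {H : Type v} [Group C] [Group H] [Fintype C] [Fintype H]

theorem scal {χ : C → ℂ} (hχ : IsIrrCharacter C χ) {θ : C → ℂ} (hθ : IsClassFunction C θ) (d : C) :
    ∑ g, θ g * χ (g * d) = (∑ g, θ g * χ g) / χ 1 * χ d := by
  obtain ⟨n, ρ, h, rfl⟩ := hχ
  have h1 : ∑ g, θ g * ρ.character (g * d) = LinearMap.trace ℂ _ ((∑ g, θ g • ρ g) * ρ d) := by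
    rw [Finset.sum_mul, map_sum]
    refine Finset.sum_congr rfl fun g _ => ?_
    rw [smul_mul_assoc, ← map_mul, map_smul, smul_eq_mul]
    rfl
  rw [h1, Characters.Central.sum_classFun_smul ρ h hθ, smul_mul_assoc, one_mul, map_smul, smul_eq_mul]
  rfl

/-- `ξ` is a constituent of the pull back of `η` -/
def Ov (φ : C →* H) (η : H → ℂ) (ξ : C → ℂ) : Prop := ∑ d, η (φ d) * ξ d⁻¹ ≠ 0

theorem Ov.om {φ : C →* H} {η : H → ℂ} {ξ : C → ℂ} (h : Ov φ η ξ) (hη : IsIrrCharacter H η)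
    (hξ : IsIrrCharacter C ξ) {γ' : H → ℂ} {γ : C → ℂ} (h1 : IsClassFunction H γ') (h2 : IsClassFunction C γ)
    (h3 : ∀ F : H → ℂ, ∑ x, γ' x * F x = ∑ c, γ c * F (φ c)) :
    (∑ x, γ' x * η x) / η 1 = (∑ c, γ c * ξ c) / ξ 1 := by
  refine mul_right_cancel₀ h ?_
  have e1 : ∑ d, (∑ c, γ c * η (φ (c * d))) * ξ d⁻¹ = (∑ x, γ' x * η x) / η 1 * ∑ d, η (φ d) * ξ d⁻¹ := by
    rw [Finset.mul_sum]
    refine Finset.sum_congr rfl fun d _ => ?_
    rw [← mul_assoc, ← scal hη h1, h3 fun x => η (x * φ d)]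
    simp only [map_mul]
  have e2 : ∑ d, (∑ c, γ c * η (φ (c * d))) * ξ d⁻¹ = (∑ c, γ c * ξ c) / ξ 1 * ∑ d, η (φ d) * ξ d⁻¹ := by
    have e3 : ∀ c, ∑ d, γ c * η (φ (c * d)) * ξ d⁻¹ = ∑ d, η (φ d) * (γ c * ξ (c * d⁻¹)) := fun c => by
      refine Fintype.sum_equiv (Equiv.mulLeft c) _ _ fun d => ?_
      rw [Equiv.coe_mulLeft, Basic.irr_mul_comm hξ, mul_inv_rev, inv_mul_cancel_right]
      ring
    simp only [Finset.sum_mul]
    rw [Finset.sum_comm]
    simp only [e3]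
    rw [Finset.sum_comm, Finset.mul_sum]
    refine Finset.sum_congr rfl fun d _ => ?_
    rw [← Finset.mul_sum, scal hξ h2]
    ring
  rw [← e1, e2]

theorem exists_ov (φ : C →* H) {ξ : C → ℂ} (hξ : IsIrrCharacter C ξ) (h : ∀ c, φ c = 1 → ξ c = ξ 1) :
    ∃ η : IrrCharacter H, Ov φ η ξ := by
  classical
  have := Characters.Core.finite_irr (G := H)
  letI := Fintype.ofFinite (IrrCharacter H)
  by_contra h0
  have h1 : ∀ η : IrrCharacter H, ∑ d, (η : H → ℂ) (φ d) * ξ d⁻¹ = 0 := fun η => by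
    by_contra h2
    exact h0 ⟨η, h2⟩
  have h2 : ∑ η : IrrCharacter H, (η : H → ℂ) 1 * ∑ d, (η : H → ℂ) (φ d) * ξ d⁻¹ = 0 := by
    simp only [h1, mul_zero, Finset.sum_const_zero]
  simp only [Finset.mul_sum, ← mul_assoc] at h2
  rw [Finset.sum_comm] at h2
  simp only [← Finset.sum_mul, Characters.Counting.sum_irr_one_mul] at h2
  rw [Finset.sum_congr rfl (g := fun d => if φ d = 1 then (Nat.card H : ℂ) * ξ 1 else 0) fun d _ => by
    split_ifs with h3
    · rw [h d⁻¹ (by rw [map_inv, h3, inv_one])]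
    · rw [zero_mul], ← Finset.sum_filter, Finset.sum_const, nsmul_eq_mul] at h2
  refine mul_ne_zero ?_ (mul_ne_zero ?_ (Basic.irr_one_ne_zero hξ)) h2
  · exact Nat.cast_ne_zero.2 (Finset.card_ne_zero.2 ⟨1, Finset.mem_filter.2 ⟨Finset.mem_univ _, map_one φ⟩⟩)
  · exact Nat.cast_ne_zero.2 Nat.card_pos.ne'

/-- `φ` induces a bijection of the `p`-regular elements -/
structure Bij (p : ℕ) (φ : C →* H) : Prop where
  inj : ∀ a b, IsPRegular p a → IsPRegular p b → φ a = φ b → a = b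
  surj : ∀ x, IsPRegular p x → ∃ a, IsPRegular p a ∧ φ a = x

theorem reg_map {p : ℕ} (φ : C →* H) {a : C} (h : IsPRegular p a) : IsPRegular p (φ a) :=
  fun h1 => h (h1.trans (orderOf_map_dvd φ a))

theorem Bij.sum {p : ℕ} {φ : C →* H} (h : Bij p φ) {γ' : H → ℂ} {γ : C → ℂ}
    (h1 : ∀ x, ¬ IsPRegular p x → γ' x = 0) (h2 : ∀ x, ¬ IsPRegular p x → γ x = 0)
    (h3 : ∀ x, IsPRegular p x → γ' (φ x) = γ x) (F : H → ℂ) : ∑ x, γ' x * F x = ∑ c, γ c * F (φ c) := by
  classical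
  rw [← Finset.sum_filter_of_ne (p := IsPRegular p) fun x _ hx => by
      by_contra h4
      exact hx (by rw [h1 x h4, zero_mul]),
    ← Finset.sum_filter_of_ne (s := (Finset.univ : Finset C)) (p := IsPRegular p) fun x _ hx => by
      by_contra h4
      exact hx (by rw [h2 x h4, zero_mul])]
  symm
  refine Finset.sum_bij (fun c _ => φ c) (fun c hc => ?_) (fun a ha b hb hab => ?_) (fun x hx => ?_) fun c hc => ?_
  · exact Finset.mem_filter.2 ⟨Finset.mem_univ _, reg_map φ (Finset.mem_filter.1 hc).2⟩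
  · exact h.inj a b (Finset.mem_filter.1 ha).2 (Finset.mem_filter.1 hb).2 hab
  · obtain ⟨a, h4, h5⟩ := h.surj x (Finset.mem_filter.1 hx).2
    exact ⟨a, Finset.mem_filter.2 ⟨Finset.mem_univ _, h4⟩, h5⟩
  · rw [h3 c (Finset.mem_filter.1 hc).2]

theorem reg_conj {p : ℕ} {a b : C} (h : IsConj a b) : IsPRegular p a ↔ IsPRegular p b := by
  obtain ⟨c, rfl⟩ := isConj_iff.1 h
  unfold IsPRegular
  rw [show orderOf (c * a * c⁻¹) = orderOf a from (MulAut.conj c).orderOf_eq a]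

open scoped Classical in
theorem Bij.cen {p : ℕ} {φ : C →* H} (h : Bij p φ) {η : H → ℂ} {ξ : C → ℂ} (ho : Ov φ η ξ)
    (hη : IsIrrCharacter H η) (hξ : IsIrrCharacter C ξ) {y : H} (hy : IsPRegular p y) :
    centralChar η y = ∑ s ∈ Finset.univ.filter (fun c => IsPRegular p c ∧ IsConj y (φ c)), ξ s / ξ 1 := by
  have h1 := ho.om hη hξ (γ' := fun x => if IsConj y x then 1 else 0)
    (γ := fun c => if IsPRegular p c ∧ IsConj y (φ c) then 1 else 0)
    (fun g x => if_congr ⟨fun h1 => h1.trans (isConj_iff.2 ⟨x, rfl⟩).symm, fun h1 => h1.trans (isConj_iff.2 ⟨x, rfl⟩)⟩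
      rfl rfl)
    (fun g x => if_congr (and_congr (reg_conj (isConj_iff.2 ⟨x, rfl⟩)).symm
      ⟨fun h1 => h1.trans (φ.map_isConj (isConj_iff.2 ⟨x, rfl⟩)).symm,
        fun h1 => h1.trans (φ.map_isConj (isConj_iff.2 ⟨x, rfl⟩))⟩) rfl rfl)
    (h.sum (fun x hx => if_neg fun h1 => hx ((reg_conj h1).1 hy)) (fun x hx => if_neg fun h1 => hx h1.1)
      fun x hx => if_congr (iff_and_self.2 fun _ => hx) rfl rfl)
  simp only [ite_mul, one_mul, zero_mul, ← Finset.sum_filter, Finset.sum_div] at h1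
  rw [← h1, InvSum.sum_class_eq_centralChar (Basic.irr_isClassFunction hη) y _ fun x => by simp]

/-- the block of `η` is determined by the block of `ξ` -/
theorem Bij.same {p : ℕ} [Fact p.Prime] {M : Ideal AlgInt} (hM : IsPModular p M) {φ : C →* H} (h : Bij p φ)
    {η η' : IrrCharacter H} {ξ ξ' : IrrCharacter C} (ho : Ov φ η ξ) (ho' : Ov φ η' ξ')
    (hs : SameBlock M (ξ : C → ℂ) (ξ' : C → ℂ)) : SameBlock M (η : H → ℂ) (η' : H → ℂ) := by
  classical
  have := Local.isPrime_of_isPModular hM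
  refine (PRegular.sameBlock_iff_of_isPRegular hM η η').2 fun y hy => ?_
  rw [h.cen ho η.2 ξ.2 hy, h.cen ho' η'.2 ξ'.2 hy]
  refine InvSum.memLocalIdeal_sum_sub (Basic.irr_isClassFunction ξ.2) (Basic.irr_isClassFunction ξ'.2) hs _
    fun a b hab ha => ?_
  obtain ⟨-, h1, h2⟩ := Finset.mem_filter.1 ha
  exact Finset.mem_filter.2 ⟨Finset.mem_univ _, (reg_conj hab).1 h1, h2.trans (φ.map_isConj hab)⟩

end hom

variable {G : Type u} [Group G] [Finite G] {p : ℕ} [hp : Fact p.Prime] {M : Ideal AlgInt} {U : Subgroup G} [U.Normal]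

/-- the map of the centralisers -/
def cm (U : Subgroup G) [U.Normal] (Q : Subgroup G) :
    centralizer (Q : Set G) →* centralizer ((Q.map (QuotientGroup.mk' U) : Subgroup (G ⧸ U)) : Set (G ⧸ U)) :=
  ((QuotientGroup.mk' U).comp (centralizer (Q : Set G)).subtype).codRestrict _ fun c => by
    rintro _ ⟨q, hq, rfl⟩
    change QuotientGroup.mk' U q * QuotientGroup.mk' U c = QuotientGroup.mk' U c * QuotientGroup.mk' U q
    rw [← map_mul, ← map_mul, c.2 q hq]

theorem cm_coe (Q : Subgroup G) (c : centralizer (Q : Set G)) : (cm U Q c : G ⧸ U) = QuotientGroup.mk (c : G) := rfl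

theorem cent_up (hU : U ≤ center G) (hg : IsPGroup p U) {Q : Subgroup G} {g : G} (h : IsPRegular p g)
    (h1 : (QuotientGroup.mk g : G ⧸ U) ∈
      centralizer ((Q.map (QuotientGroup.mk' U) : Subgroup (G ⧸ U)) : Set (G ⧸ U))) :
    g ∈ centralizer (Q : Set G) := fun q hq =>
  mem_centralizer_singleton_iff.1 ((H644.CentralQuot.mem_centralizer_iff hU hg h q).1
    (mem_centralizer_singleton_iff.2 (h1 _ ⟨q, hq, rfl⟩)))

theorem coeff_sing {K : Type v} [Group K] [Finite K] (hM : IsPModular p M) {b : Set (IrrCharacter K)}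
    (hb : IsPBlock M b) {x : K} (hx : ¬ IsPRegular p x) : blockCoeff b x = 0 := by
  rw [Basic.blockCoeff_def, S0907.result p M hM b hb 1 _ (by
    rw [orderOf_one, Nat.dvd_one]; exact hp.out.ne_one) (not_not.1 hx), mul_zero]

/-- **nilpotency goes up along a central `p`-extension** -/
theorem nil_up (hM : IsPModular p M) (hU : U ≤ center G) (hg : IsPGroup p U) {B : Set (IrrCharacter G)}
    (hB : IsPBlock M B) (hN : IsNilpotentBlock p M (defl U B)) : IsNilpotentBlock p M B := by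
  classical
  have := Local.isPrime_of_isPModular hM
  letI := Fintype.ofFinite G
  refine ⟨hB, fun Q e he x hx hs hr => cent_up hU hg hr ?_⟩
  letI := Fintype.ofFinite (centralizer (Q : Set G))
  letI := Fintype.ofFinite (centralizer ((Q.map (QuotientGroup.mk' U) : Subgroup (G ⧸ U)) : Set (G ⧸ U)))
  have hb : Bij p (cm U Q) := by
    refine ⟨fun a b ha hb hab => Subtype.ext (H644.CentralQuot.eq_of_mk_eq hU hg ?_ ?_ (congrArg Subtype.val hab)),
      fun y hy => ?_⟩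
    · rwa [orderOf_coe]
    · rwa [orderOf_coe]
    · obtain ⟨g, h1, h2⟩ := PRegular.exists_isPRegular_lift G p U (x := (y : G ⧸ U))
        (by unfold IsPRegular; rwa [orderOf_coe])
      refine ⟨⟨g, cent_up hU hg h1 (h2 ▸ y.2)⟩, ?_, Subtype.ext h2⟩
      unfold IsPRegular
      rwa [← orderOf_coe]
  obtain ⟨θ, hθ⟩ := H644.CentralQuot.exists_mem_defl (U := U.subgroupOf (centralizer (Q : Set G))) hM
    hg.comap_subtype he.1.2
  obtain ⟨η, ho⟩ := exists_ov (cm U Q) (infl _ θ).2 fun c hc => by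
    have h1 : (c : G) ∈ U := (QuotientGroup.eq_one_iff _).1 (congrArg Subtype.val hc)
    rw [H644.CentralQuot.infl_apply, (QuotientGroup.eq_one_iff c).2 (mem_subgroupOf.2 h1)]
    rfl
  rw [H644.CentralQuot.mem_defl] at hθ
  generalize infl _ θ = ξ at hθ ho
  have hx' : (QuotientGroup.mk x : G ⧸ U) ∈
      normalizer ((Q.map (QuotientGroup.mk' U) : Subgroup (G ⧸ U)) : Set (G ⧸ U)) := le_normalizer_map _ ⟨x, hx, rfl⟩
  have hη := Basic.isPBlock_blockOf (M := M) η
  refine hN.2 _ (blockOf M η) ?_ _ hx' ?_ (H644.CentralQuot.not_dvd_orderOf_mk hr)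
  · refine H652.PairBasic.isBrauerPairOf_of_mem hM hN.1 (he.1.1.map _) hη (Basic.mem_blockOf_self η) ?_
    have h1 := ho.om η.2 ξ.2 (γ' := fun y => blockCoeff (defl U B) (y : G ⧸ U)) (γ := fun c => blockCoeff B (c : G))
      (fun a b => (Basic.blockCoeff_isConj _ (isConj_iff.2 ⟨(b : G ⧸ U), rfl⟩)).symm)
      (fun a b => (Basic.blockCoeff_isConj _ (isConj_iff.2 ⟨(b : G), rfl⟩)).symm)
      (hb.sum (fun y hy => coeff_sing hM hN.1 (by unfold IsPRegular; rwa [orderOf_coe]))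
        (fun y hy => coeff_sing hM hB (by unfold IsPRegular; rwa [orderOf_coe]))
        fun y hy => H644.CentralQuot.blockCoeff_defl hM hU hg hB (g := (y : G)) (by rwa [orderOf_coe]))
    have h2 := he.2.2 ξ hθ
    unfold brauerOmega at h2 ⊢
    rw [finsum_eq_sum_of_fintype, ← Finset.sum_div] at h2 ⊢
    rwa [h1]
  · have hn := H649.mem_normalizer_centralizer hx'
    refine (H649.stabilizesBlock_iff hη _).2 ⟨hn, ?_⟩
    obtain ⟨ξ', hξ', hc⟩ := hs.2 ξ hθ
    refine Basic.isPBlock_eq_of_mem (H649.isPBlock_blkMap hη) hη (χ := H649.irrMap (H649.conjAut _ _ hn) η)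
      (H649.irrMap_mem_blkMap.2 (Basic.mem_blockOf_self η)) ?_
    refine hb.same hM ho ?_ (Basic.isPBlock_sameBlock he.1.2 hθ hξ')
    unfold Ov at ho ⊢
    rwa [← Fintype.sum_equiv (H649.conjAut _ x hs.1).toEquiv _ _ fun d => ?_]
    have h1 : cm U Q (H649.conjAut _ x hs.1 d) = H649.conjAut _ _ hn (cm U Q d) := Subtype.ext rfl
    have h2 := hc d⁻¹ (H649.conjAut _ x hs.1 d)⁻¹ (by
      rw [coe_inv, coe_inv, H649.conjAut_coe, mul_inv_rev, mul_inv_rev, inv_inv, mul_assoc])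
    change _ = (H649.irrMap (H649.conjAut _ _ hn) η).1 (cm U Q (H649.conjAut _ x hs.1 d)) *
      ξ'.1 (H649.conjAut _ x hs.1 d)⁻¹
    rw [h1, h2, H649.irrMap_apply']

end Cfsg.Agent.BZ.Up
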