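import Cfsg.Agent.BZ.Red
import Cfsg.Agent.BZ.Up
import Cfsg.Agent.BZ.NilOdd
import Cfsg.Agent.S4889

/-!
# BZ: the reduction of S4853 to the rows (lead)

* `BoxN2'` : `BoxN2` with the extra hypothesis `EqD`;
* `qsT`, `qsT'` : equal degrees in height zero implies abelian; `s4853_of`.
-/

set_option autoImplicit false
set_option linter.unusedSectionVars false
set_option linter.style.haveILetI false

namespace Cfsg.Agent.BZ

open Cfsg Cfsg.Agent.KM Cfsg.Agent.KM.BK Cfsg.Agent.Blocks Subgroup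
open Cfsg.Agent.H644.CentralQuot (defl infl)
open scoped commutatorElement

universe u

/-- `BoxN2` with the extra hypothesis that the degrees in height zero are equal -/
def BoxN2' : Prop :=
  ∀ (M : Ideal AlgInt), IsPModular 2 M → ∀ (K : Type) [Group K] [Finite K], IsQuasisimple K →
    ∀ (B : Set (IrrCharacter K)) (D : Subgroup K), IsPBlock M B → IsDefectGroup 2 M B D → IsNilpotentBlock 2 M B →
      EqD 2 B → ⁅D, D⁆ ≤ Subgroup.center K → IsMulCommutative D

theorem BoxN2.prime (h : BoxN2) : BoxN2' := fun M hM K _ _ hK B D hB hD hN _ hc => h M hM K hK B D hB hD hN hc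

variable {p : ℕ} [hp : Fact p.Prime] {M : Ideal AlgInt}

theorem eqD_defl {K : Type u} [Group K] {U : Subgroup K} [U.Normal] {B : Set (IrrCharacter K)}
    (h1 : ∀ θ ∈ defl U B, blockHeight p (defl U B) (θ : K ⧸ U → ℂ) = blockHeight p B (infl U θ : K → ℂ))
    (h2 : EqD p B) : EqD p (defl U B) :=
  fun χ hχ ψ hψ a b => h2 _ hχ _ hψ ((h1 χ hχ).symm.trans a) ((h1 ψ hψ).symm.trans b)

/-- abelian defect group and equal degrees: nilpotent -/
theorem nil_of_ab (hK : KMAll.{u}) (hM : IsPModular p M) {G : Type u} [Group G] [Finite G] {B : Set (IrrCharacter G)}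
    {D : Subgroup G} (hB : IsPBlock M B) (hD : IsDefectGroup p M B D) (hA : IsMulCommutative D) (hX : EqD p B) :
    IsNilpotentBlock p M B := by
  have := Local.isPrime_of_isPModular hM
  have h0 := hK p M hM G B D hB hD hA
  obtain ⟨χ, hχ⟩ := Basic.isPBlock_nonempty hB
  exact (S4889.result p M hM B hB D hD hA h0).1 ⟨_, fun ψ hψ => hX ψ hψ χ hχ (h0 ψ hψ) (h0 χ hχ)⟩

/-- **equal degrees in height zero implies abelian**, quasisimple groups in `Type` -/
theorem qsT (hK0 : KMAll.{0}) (h : All RowT) (hN : BoxN2') (hM : IsPModular p M) (K : Type) [Group K]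
    [Finite K] (hK : IsQuasisimple K) (B : Set (IrrCharacter K)) (D : Subgroup K) (hB : IsPBlock M B)
    (hD : IsDefectGroup p M B D) (h0 : EqD p B) : Ab D := by
  refine Red.ind XT hM h.known (fun _ _ _ _ _ h1 h2 => eqD_defl h1 h2) ?_ _ K rfl hK B D hB hD h0
  intro K _ _ hK z _ hz ho B D hB hD hX hA
  letI := Fintype.ofFinite K
  have hU : zpowers z ≤ center K := zpowers_le.2 hz
  have hg : IsPGroup p (zpowers z) := IsPGroup.of_card (n := 1) (by rw [Nat.card_zpowers, ho, pow_one])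
  have h1 := Up.nil_up hM hU hg hB (nil_of_ab hK0 hM (H644.CentralQuot.isPBlock_defl hM hU hg hB)
    (H658.isDefectGroup_defl hM hU hg hB hD).2 (ab_iff.1 hA)
    (eqD_defl (fun θ hθ => BH.PB.height_infl hM hB hU hg hθ) hX))
  by_cases h2 : p = 2
  · subst h2
    refine ab_iff.2 (hN M hM K hK B D hB hD h1 hX (commutator_le.2 fun x hx y hy => hU ?_))
    rw [← QuotientGroup.eq_one_iff, ← QuotientGroup.mk'_apply, map_commutatorElement,
      commutatorElement_eq_one_iff_mul_comm]
    exact hA _ ⟨x, hx, rfl⟩ _ ⟨y, hy, rfl⟩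
  · exact ab_iff.2 (NilOdd.ab hK p h2 M hM B h1 D hD)

open Cfsg.Agent.H649 in
/-- the same in every universe -/
theorem qsT' (hK0 : KMAll.{0}) (h : All RowT) (hN : BoxN2') (hM : IsPModular p M) {G : Type u} [Group G]
    [Finite G] (hG : IsQuasisimple G) {B : Set (IrrCharacter G)} {D : Subgroup G} (hB : IsPBlock M B)
    (hD : IsDefectGroup p M B D) (h0 : EqD p B) : Ab D := by
  have : Small.{0} G := Countable.toSmall G
  have : Finite (Shrink.{0} G) := Finite.of_equiv G (equivShrink.{0} G)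
  let e : G ≃* Shrink.{0} G := (Shrink.mulEquiv : Shrink.{0} G ≃* G).symm
  have := hG.2
  have : Nontrivial G := (QuotientGroup.mk'_surjective (center G)).nontrivial
  have h1 := qsT hK0 h hN hM (Shrink.{0} G) (SignalizersComponents.ComponentImage.isQuasisimple_of_surjective hG
    e.toMonoidHom e.surjective e.injective.nontrivial) _ _ (isPBlock_blkMap (e := e) hB)
    (isDefectGroup_blkMap (e := e) hD) (fun χ hχ ψ hψ a b => by
      obtain ⟨χ, rfl⟩ : ∃ a, irrMap e a = χ := ⟨irrMap e.symm χ, irrMap_irrMap_symm e χ⟩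
      obtain ⟨ψ, rfl⟩ : ∃ a, irrMap e a = ψ := ⟨irrMap e.symm ψ, irrMap_irrMap_symm e ψ⟩
      rw [blockHeight_blkMap] at a b
      rw [charDegree_irrMap, charDegree_irrMap]
      exact h0 _ (irrMap_mem_blkMap.1 hχ) _ (irrMap_mem_blkMap.1 hψ) a b)
  exact Ab.of_map e.injective h1

/-- **S4853 from the theorem of Kessar and Malle, the rows and the box for nilpotent `2`-blocks.** -/
theorem s4853_of (hK0 : KMAll.{0}) (hK : KMAll.{u}) (h : All RowT) (hN : BoxN2') {S : Type u} [Group S] [Finite S]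
    (hS : IsQuasisimple S) (p : ℕ) [Fact p.Prime] (M : Ideal AlgInt) (hM : IsPModular p M)
    (B : Set (IrrCharacter S)) (hB : IsPBlock M B) (D : Subgroup S) (hD : IsDefectGroup p M B D)
    (heq : ∀ χ ∈ B, ∀ ψ ∈ B, blockHeight p B (χ : S → ℂ) = 0 → blockHeight p B (ψ : S → ℂ) = 0 →
      charDegree (χ : S → ℂ) = charDegree (ψ : S → ℂ)) : IsMulCommutative D ∧ IsNilpotentBlock p M B :=
  ⟨ab_iff.1 (qsT' hK0 h hN hM hS hB hD heq), nil_of_ab hK hM hB hD (ab_iff.1 (qsT' hK0 h hN hM hS hB hD heq)) heq⟩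

end Cfsg.Agent.BZ
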